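import Mathlib
import Cfsg.Agent.Lib.Components.Basic
import Cfsg.Agent.Lib.CycSyl.Hyp

/-!
# Groups in which cyclic `p`-subgroups of the same order are conjugate: the layer
-/

set_option autoImplicit false
set_option linter.unusedSectionVars false
set_option linter.style.haveILetI false

namespace Cfsg.Agent.Lib.CycConj

open Subgroup Cfsg Cfsg.Agent.Lib.Components.Basic Cfsg.Agent.Lib.CycSyl
open scoped commutatorElement

universe u

/-- Any two cyclic `p`-subgroups of the same order are conjugate. -/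
def ConjP (G : Type*) [Group G] : Prop :=
  ∀ (p : ℕ), p.Prime → ∀ A B : Subgroup G, IsCyclic ↥A → IsCyclic ↥B → IsPGroup p ↥A →
    Nat.card ↥A = Nat.card ↥B → ∃ g : G, B = A.map (MulAut.conj g).toMonoidHom

section
variable {G : Type u} [Group G] [Finite G]

/-- Elements of the same `2`-power order are conjugate up to a power. -/
theorem exists_conj_of_order (hP : ConjP G) {p : ℕ} (hp : p.Prime) {a b : G} {k : ℕ}
    (ha : orderOf a = p ^ k) (hb : orderOf b = p ^ k) :
    ∃ (g : G) (i : ℤ), b = g * a ^ i * g⁻¹ := by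
  haveI : Fact p.Prime := ⟨hp⟩
  have hA : IsPGroup p (zpowers a) := by
    apply IsPGroup.of_card (n := k)
    rw [Nat.card_zpowers, ha]
  obtain ⟨g, hg⟩ := hP p hp (zpowers a) (zpowers b) inferInstance inferInstance hA
    (by rw [Nat.card_zpowers, Nat.card_zpowers, ha, hb])
  have hb' : b ∈ (zpowers a).map (MulAut.conj g).toMonoidHom := by
    rw [← hg]; exact mem_zpowers b
  obtain ⟨y, ⟨i, rfl⟩, hy⟩ := hb'
  exact ⟨g, i, by simpa using hy.symm⟩

theorem solvable_center (X : Type*) [Group X] : Group.IsSolvable (center X) :=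
  isSolvable_of_comm (fun a b => Subtype.ext (Subgroup.mem_center_iff.1 a.2 (b : X)).symm)

/-- A component has a non-central `2`-element (Feit–Thompson). -/
theorem exists_noncentral_two (ft : FT.{u}) {L : Subgroup G} (hL : IsQuasisimple L) :
    ∃ x ∈ L, (∃ k : ℕ, orderOf x = 2 ^ k) ∧ ¬ ∀ l ∈ L, l * x = x * l := by
  classical
  haveI : Fact (Nat.Prime 2) := ⟨Nat.prime_two⟩
  by_contra hcon
  push Not at hcon
  obtain ⟨S⟩ : Nonempty (Sylow 2 L) := inferInstance
  have hle : (S : Subgroup L) ≤ center L := by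
    intro s hs
    rw [Subgroup.mem_center_iff]
    intro l
    obtain ⟨k, hk⟩ := (IsPGroup.iff_orderOf.1 S.2) ⟨s, hs⟩
    have hk' : orderOf (s : G) = 2 ^ k := by
      have : orderOf s = 2 ^ k := by simpa using hk
      rw [← this]; exact Subgroup.orderOf_coe s
    exact Subtype.ext (hcon (s : G) s.2 ⟨k, hk'⟩ l l.2)
  have hodd : Odd (Nat.card (L ⧸ center L)) := by
    have h1 : (center L).index ∣ (S : Subgroup L).index := Subgroup.index_dvd_of_le hle
    have h2 := S.not_dvd_index
    rw [Subgroup.index] at h1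
    exact Odd.of_dvd_nat (Nat.odd_iff.2 (by omega)) h1
  haveI hs := ft _ hodd
  apply quasisimple_not_solvable hL
  exact solvable_of_normal_quotient (center L) (solvable_center L) hs

/-- A non-central `2`-element of minimal order. -/
theorem exists_min_noncentral (ft : FT.{u}) {L : Subgroup G} (hL : IsQuasisimple L) :
    ∃ (x : G) (a : ℕ), x ∈ L ∧ orderOf x = 2 ^ (a + 1) ∧ (¬ ∀ l ∈ L, l * x = x * l) ∧
      ∀ l ∈ L, l * x ^ 2 = x ^ 2 * l := by
  classical
  have hex : ∃ k : ℕ, ∃ x ∈ L, orderOf x = 2 ^ k ∧ ¬ ∀ l ∈ L, l * x = x * l := by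
    obtain ⟨x, hx, ⟨k, hk⟩, hn⟩ := exists_noncentral_two ft hL
    exact ⟨k, x, hx, hk, hn⟩
  obtain ⟨x, hx, hk, hn⟩ := Nat.find_spec hex
  have hmin := fun m => Nat.find_min hex (m := m)
  set k := Nat.find hex with hkdef
  have hk0 : k ≠ 0 := by
    intro h0
    rw [h0, pow_zero, orderOf_eq_one_iff] at hk
    apply hn
    intro l _
    rw [hk]; group
  obtain ⟨a, ha⟩ := Nat.exists_eq_succ_of_ne_zero hk0
  rw [ha] at hk
  refine ⟨x, a, hx, hk, hn, ?_⟩
  by_contra hcon
  have hlt : a < k := by omega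
  apply hmin a hlt
  refine ⟨x ^ 2, pow_mem hx 2, ?_, hcon⟩
  have h1 : orderOf (x ^ 2) = orderOf x / (orderOf x).gcd 2 := orderOf_pow x
  rw [h1, hk, Nat.succ_eq_add_one, pow_succ]
  simp

theorem comm_of_commutator {K L : Subgroup G} (h : ⁅K, L⁆ = ⊥) {a b : G} (ha : a ∈ K) (hb : b ∈ L) :
    a * b = b * a := by
  have h1 : ⁅a, b⁆ ∈ ⁅K, L⁆ := Subgroup.commutator_mem_commutator ha hb
  rw [h, Subgroup.mem_bot, commutatorElement_eq_one_iff_mul_comm] at h1
  exact h1

/-- Two components cannot coexist, one non-central `2`-element being at least as long as another. -/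
theorem false_of_two_aux (ft : FT.{u}) (hP : ConjP G) {L₁ L₂ : Subgroup G} (h₁ : IsComponent L₁)
    (h₂ : IsComponent L₂) (hne : L₁ ≠ L₂) {x y : G} {a b : ℕ} (hx : x ∈ L₁) (hy : y ∈ L₂)
    (hxo : orderOf x = 2 ^ (a + 1)) (hyo : orderOf y = 2 ^ (b + 1)) (hba : b ≤ a)
    (hxn : ¬ ∀ l ∈ L₁, l * x = x * l) (hyn : ¬ ∀ l ∈ L₂, l * y = y * l)
    (hxc : ∀ l ∈ L₁, l * x ^ 2 = x ^ 2 * l) : False := by
  classical
  have h12 : ⁅L₁, L₂⁆ = ⊥ := (component_eq_or_commutator_eq_bot h₁ h₂).resolve_left hne
  have hxy : x * y = y * x := comm_of_commutator h12 hx hy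
  -- `xy` does not commute with `L₁`
  have hyL₁ : ∀ l ∈ L₁, l * y = y * l := fun l hl => comm_of_commutator h12 hl hy
  have hxyn : ¬ ∀ l ∈ L₁, l * (x * y) = (x * y) * l := by
    intro hc
    apply hxn
    intro l hl
    have h1 := hc l hl
    have h2 : l * x * y = x * l * y := by
      calc l * x * y = l * (x * y) := by group
        _ = x * y * l := h1
        _ = x * (y * l) := by group
        _ = x * (l * y) := by rw [hyL₁ l hl]
        _ = x * l * y := by group
    exact mul_right_cancel h2
  -- the order of `xy`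
  have hpow : (x * y) ^ (2 ^ (a + 1)) = 1 := by
    have hcomm : Commute x y := hxy
    rw [hcomm.mul_pow]
    have h1 : x ^ 2 ^ (a + 1) = 1 := by rw [← hxo]; exact pow_orderOf_eq_one x
    have h2 : y ^ 2 ^ (a + 1) = 1 := by
      have : 2 ^ (a + 1) = 2 ^ (b + 1) * 2 ^ (a - b) := by
        rw [← pow_add]; congr 1; omega
      rw [this, pow_mul, ← hyo, pow_orderOf_eq_one, one_pow]
    rw [h1, h2, one_mul]
  obtain ⟨c, hc, hco⟩ := (Nat.dvd_prime_pow Nat.prime_two).1 (orderOf_dvd_of_pow_eq_one hpow)
  rcases hc.lt_or_eq with hlt | heq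
  · -- `xy` is conjugate to a central element of the layer
    have hd : a + 1 - c ≠ 0 := by omega
    have hk : a + 1 = (a + 1 - c) + c := by omega
    set z := x ^ (2 ^ (a + 1 - c)) with hz
    have hzo : orderOf z = 2 ^ c := by
      have h1 : orderOf z = orderOf x / (orderOf x).gcd (2 ^ (a + 1 - c)) := orderOf_pow x
      rw [h1, hxo, hk, pow_add]
      have h2 : (2 ^ (a + 1 - c + c - c)) = 2 ^ (a + 1 - c) := by congr 1; omega
      have h3 : a + 1 - c + c - c = a + 1 - c := by omega
      rw [h3, Nat.gcd_eq_right (Dvd.intro _ rfl)]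
      exact Nat.mul_div_cancel_left _ (by positivity)
    obtain ⟨g, i, hg⟩ := exists_conj_of_order hP Nat.prime_two hzo hco
    -- `z` commutes with all components
    have hzall : ∀ (K : Subgroup G), IsComponent K → ∀ l ∈ K, l * z ^ i = z ^ i * l := by
      intro K hK l hl
      have hcz : Commute l z := by
        by_cases hK1 : K = L₁
        · subst hK1
          obtain ⟨m, hm⟩ := Nat.exists_eq_succ_of_ne_zero hd
          have e : 2 ^ (a + 1 - c) = 2 * 2 ^ m := by rw [hm, Nat.succ_eq_add_one, pow_succ]; ring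
          rw [hz, e, pow_mul]
          exact (show Commute l (x ^ 2) from hxc l hl).pow_right _
        · have h3 := (component_eq_or_commutator_eq_bot hK h₁).resolve_left hK1
          exact (show Commute l x from comm_of_commutator h3 hl hx).pow_right _
      exact (hcz.zpow_right i).eq
    apply hxyn
    intro l hl
    -- conjugate back
    have hK := isComponent_conj g⁻¹ h₁
    have hl' : g⁻¹ * l * g ∈ L₁.map (MulAut.conj g⁻¹).toMonoidHom :=
      ⟨l, hl, by simp⟩
    have h4 := hzall _ hK _ hl'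
    rw [hg]
    calc l * (g * z ^ i * g⁻¹) = g * ((g⁻¹ * l * g) * z ^ i) * g⁻¹ := by group
      _ = g * (z ^ i * (g⁻¹ * l * g)) * g⁻¹ := by rw [h4]
      _ = g * z ^ i * g⁻¹ * l := by group
  · -- `xy` is conjugate to a power of `x`, so it lies in a component
    rw [heq] at hco
    obtain ⟨g, i, hg⟩ := exists_conj_of_order hP Nat.prime_two hxo hco
    have hK := isComponent_conj g h₁
    have hmem : x * y ∈ L₁.map (MulAut.conj g).toMonoidHom :=
      ⟨x ^ i, zpow_mem hx i, by simpa using hg.symm⟩
    rcases component_eq_or_commutator_eq_bot hK h₁ with h5 | h5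
    · rw [h5] at hmem
      apply hyn
      have hyL : y ∈ L₁ := by
        have : y = x⁻¹ * (x * y) := by group
        rw [this]
        exact mul_mem (inv_mem hx) hmem
      intro l hl
      exact comm_of_commutator h12 hyL hl |>.symm
    · apply hxyn
      intro l hl
      exact (comm_of_commutator h5 hmem hl).symm

/-- Any two components coincide. -/
theorem component_unique (ft : FT.{u}) (hP : ConjP G) {L₁ L₂ : Subgroup G} (h₁ : IsComponent L₁)
    (h₂ : IsComponent L₂) : L₁ = L₂ := by
  by_contra hne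
  obtain ⟨x, a, hx, hxo, hxn, hxc⟩ := exists_min_noncentral ft h₁.2
  obtain ⟨y, b, hy, hyo, hyn, hyc⟩ := exists_min_noncentral ft h₂.2
  rcases le_total b a with hab | hab
  · exact false_of_two_aux ft hP h₁ h₂ hne hx hy hxo hyo hab hxn hyn hxc
  · exact false_of_two_aux ft hP h₂ h₁ (Ne.symm hne) hy hx hyo hxo hab hyn hxn hyc

/-- The statement of `S3915`, given Feit–Thompson. -/
theorem layer_simple_of_ft (ft : FT.{u}) (hP : ConjP G) (hE : layer G ≠ ⊥) :
    IsSimpleGroup (↥(layer G) ⧸ Subgroup.center ↥(layer G)) ∧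
      ¬ IsMulCommutative (↥(layer G) ⧸ Subgroup.center ↥(layer G)) := by
  classical
  have hex : ∃ L : Subgroup G, IsComponent L := by
    by_contra hcon
    push Not at hcon
    apply hE
    apply le_antisymm _ bot_le
    apply sSup_le
    intro K hK
    exact absurd hK (hcon K)
  obtain ⟨L, hL⟩ := hex
  have hLE : layer G = L := by
    apply le_antisymm
    · apply sSup_le
      intro K hK
      rw [component_unique ft hP hK hL]
    · exact le_layer_of_isComponent hL
  rw [hLE]
  refine ⟨hL.2.2, ?_⟩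
  intro hcomm
  apply quasisimple_not_solvable hL.2
  have h1 : Group.IsSolvable (L ⧸ center L) :=
    isSolvable_of_comm (fun a b => hcomm.is_comm.comm a b)
  exact solvable_of_normal_quotient (center L) (solvable_center L) h1

end

end Cfsg.Agent.Lib.CycConj
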